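import Cfsg.Agent.Lib.Comp.Golay

set_option maxRecDepth 100000

namespace Cfsg.Lib.Comp.M24

universe u

noncomputable def nets_1 : Net :=
 (Net.cons 12 (nat_lit 0xa30)
 (Net.cons 6 (nat_lit 0x30012)
 (Net.cons 3 (nat_lit 0x182080)
 (Net.cons 1 (nat_lit 0x249040)
 (Net.cons 1 (nat_lit 0x82410)
 (Net.cons 1 (nat_lit 0x41008)
 (Net.cons 3 (nat_lit 0x1c0187)
 (Net.cons 6 (nat_lit 0x1f01d)
 (Net.cons 12 (nat_lit 0xf73)
 Net.nil)))))))))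

noncomputable def nets_2 : Net :=
 (Net.cons 12 (nat_lit 0x898)
 (Net.cons 6 (nat_lit 0xc03c)
 (Net.cons 3 (nat_lit 0x4104)
 (Net.cons 1 (nat_lit 0x40009)
 (Net.cons 1 (nat_lit 0x412492)
 (Net.cons 1 (nat_lit 0x201048)
 (Net.cons 3 (nat_lit 0x101180)
 (Net.cons 6 (nat_lit 0x21029)
 (Net.cons 12 (nat_lit 0xe5e)
 Net.nil)))))))))

noncomputable def nets_64 : Net :=
 (Net.cons 12 (nat_lit 0x1ac)
 (Net.cons 6 (nat_lit 0xa03a)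
 (Net.cons 3 (nat_lit 0x104080)
 (Net.cons 1 (nat_lit 0x249008)
 (Net.cons 1 (nat_lit 0x412092)
 (Net.cons 1 (nat_lit 0x1040)
 (Net.cons 3 (nat_lit 0x87144)
 (Net.cons 6 (nat_lit 0xa02c)
 (Net.cons 12 (nat_lit 0x714)
 Net.nil)))))))))

noncomputable def nets_66 : Net :=
 (Net.cons 12 (nat_lit 0x2ce)
 (Net.cons 6 (nat_lit 0x1c014)
 (Net.cons 3 (nat_lit 0x100)
 (Net.cons 1 (nat_lit 0x49040)
 (Net.cons 1 (nat_lit 0x412090)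
 (Net.cons 1 (nat_lit 0x8040)
 (Net.cons 3 (nat_lit 0x45186)
 (Net.cons 6 (nat_lit 0x900e)
 (Net.cons 12 (nat_lit 0xff8)
 Net.nil)))))))))

noncomputable def nets_68 : Net :=
 (Net.cons 12 (nat_lit 0x90c)
 (Net.cons 6 (nat_lit 0x16016)
 (Net.cons 3 (nat_lit 0x84000)
 (Net.cons 1 (nat_lit 0x208)
 (Net.cons 1 (nat_lit 0x82412)
 (Net.cons 1 (nat_lit 0x40008)
 (Net.cons 3 (nat_lit 0x3042)
 (Net.cons 6 (nat_lit 0x23032)
 (Net.cons 12 (nat_lit 0xb9c)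
 Net.nil)))))))))

noncomputable def nets_70 : Net :=
 (Net.cons 12 (nat_lit 0x85a)
 (Net.cons 6 (nat_lit 0xe010)
 (Net.cons 3 (nat_lit 0x104)
 (Net.cons 1 (nat_lit 0x201008)
 (Net.cons 1 (nat_lit 0x412092)
 (Net.cons 1 (nat_lit 0x200048)
 (Net.cons 3 (nat_lit 0x43080)
 (Net.cons 6 (nat_lit 0xf00a)
 (Net.cons 12 (nat_lit 0x296)
 Net.nil)))))))))

noncomputable def nets_72 : Net :=
 (Net.cons 12 (nat_lit 0x55e)
 (Net.cons 6 (nat_lit 0x3c008)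
 (Net.cons 3 (nat_lit 0x180100)
 (Net.cons 1 (nat_lit 0x249240)
 (Net.cons 1 (nat_lit 0x92492)
 (Net.cons 1 (nat_lit 0x41208)
 (Net.cons 3 (nat_lit 0x1050c0)
 (Net.cons 6 (nat_lit 0x1d022)
 (Net.cons 12 (nat_lit 0x436)
 Net.nil)))))))))

noncomputable def nets_74 : Net :=
 (Net.cons 12 (nat_lit 0xf12)
 (Net.cons 6 (nat_lit 0x18024)
 (Net.cons 3 (nat_lit 0x186080)
 (Net.cons 1 (nat_lit 0x48048)
 (Net.cons 1 (nat_lit 0x412412)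
 (Net.cons 1 (nat_lit 0x8008)
 (Net.cons 3 (nat_lit 0x86086)
 (Net.cons 6 (nat_lit 0x25014)
 (Net.cons 12 (nat_lit 0x28a)
 Net.nil)))))))))

noncomputable def nets_76 : Net :=
 (Net.cons 12 (nat_lit 0x40)
 (Net.cons 6 (nat_lit 0x12024)
 (Net.cons 3 (nat_lit 0x80004)
 (Net.cons 1 (nat_lit 0x40240)
 (Net.cons 1 (nat_lit 0x492410)
 (Net.cons 1 (nat_lit 0x1000)
 (Net.cons 3 (nat_lit 0x1040c4)
 (Net.cons 6 (nat_lit 0x38034)
 (Net.cons 12 (nat_lit 0xf50)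
 Net.nil)))))))))

noncomputable def nets_78 : Net :=
 (Net.cons 12 (nat_lit 0x628)
 (Net.cons 6 (nat_lit 0xc000)
 (Net.cons 3 (nat_lit 0x84080)
 (Net.cons 1 (nat_lit 0x41200)
 (Net.cons 1 (nat_lit 0x10480)
 (Net.cons 1 (nat_lit 0x8240)
 (Net.cons 3 (nat_lit 0x184000)
 (Net.cons 6 (nat_lit 0x2f008)
 (Net.cons 12 (nat_lit 0x2e8)
 Net.nil)))))))))

noncomputable def nets_80 : Net :=
 (Net.cons 12 (nat_lit 0x1b0)
 (Net.cons 6 (nat_lit 0x18004)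
 (Net.cons 3 (nat_lit 0x80100)
 (Net.cons 1 (nat_lit 0x248040)
 (Net.cons 1 (nat_lit 0x92090)
 (Net.cons 1 (nat_lit 0x41000)
 (Net.cons 3 (nat_lit 0x1c3184)
 (Net.cons 6 (nat_lit 0x33004)
 (Net.cons 12 (nat_lit 0x570)
 Net.nil)))))))))

noncomputable def nets_82 : Net :=
 (Net.cons 12 (nat_lit 0x324)
 (Net.cons 6 (nat_lit 0x6000)
 (Net.cons 3 (nat_lit 0x4000)
 (Net.cons 1 (nat_lit 0x248240)
 (Net.cons 1 (nat_lit 0x10480)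
 (Net.cons 1 (nat_lit 0x8240)
 (Net.cons 3 (nat_lit 0x6144)
 (Net.cons 6 (nat_lit 0x26000)
 (Net.cons 12 (nat_lit 0x324)
 Net.nil)))))))))

noncomputable def nets_83 : Net :=
 (Net.cons 12 (nat_lit 0xdec)
 (Net.cons 6 (nat_lit 0x24014)
 (Net.cons 3 (nat_lit 0x82004)
 (Net.cons 1 (nat_lit 0x201040)
 (Net.cons 1 (nat_lit 0x10010)
 (Net.cons 1 (nat_lit 0x8)
 (Net.cons 3 (nat_lit 0x46144)
 (Net.cons 6 (nat_lit 0x35034)
 (Net.cons 12 (nat_lit 0xdec)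
 Net.nil)))))))))

noncomputable def nets : List Net := (apd [Net.nil,
 nets_1,
 nets_2,
 Net.rev nets_1,
 Net.rev nets_2,
 Net.nil,
 Net.nil,
 Net.nil,
 Net.nil,
 Net.nil,
 Net.nil,
 Net.nil,
 Net.nil,
 Net.nil,
 Net.nil,
 Net.nil,
 Net.nil,
 Net.nil,
 Net.nil,
 Net.nil,
 Net.nil,
 Net.nil,
 Net.nil,
 Net.nil,
 Net.nil,
 Net.nil,
 Net.nil,
 Net.nil,
 Net.nil,
 Net.nil,
 Net.nil,
 Net.nil,
 Net.nil,
 Net.nil,
 Net.nil,
 Net.nil,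
 Net.nil,
 Net.nil,
 Net.nil,
 Net.nil]
 (apd [Net.nil,
 Net.nil,
 Net.nil,
 Net.nil,
 Net.nil,
 Net.nil,
 Net.nil,
 Net.nil,
 Net.nil,
 Net.nil,
 Net.nil,
 Net.nil,
 Net.nil,
 Net.nil,
 Net.nil,
 Net.nil,
 Net.nil,
 Net.nil,
 Net.nil,
 Net.nil,
 Net.nil,
 Net.nil,
 Net.nil,
 Net.nil,
 nets_64,
 Net.rev nets_64,
 nets_66,
 Net.rev nets_66,
 nets_68,
 Net.rev nets_68,
 nets_70,
 Net.rev nets_70,
 nets_72,
 Net.rev nets_72,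
 nets_74,
 Net.rev nets_74,
 nets_76,
 Net.rev nets_76,
 nets_78,
 Net.rev nets_78]
 [nets_80,
 Net.rev nets_80,
 nets_82,
 nets_83,
 Net.rev nets_83]))

theorem nets_ok : NetsOK 24 nets := netsOK_of (by decide +kernel)

def L : List ℕ := [1,2]

noncomputable def slp : List (ℕ × List ℕ) := [(3,[1,1,1,1,1,1,1,1,1,1,1,1,1,1,1,1,1,1,1,1,1,1]),
 (4,[2,2,2,2,2,2,2,2,2,2,2,2,2,2,2,2,2,2,2,2,2,2]),
 (64,[4,1,4,3,2]),
 (65,[4,1,2,3,2]),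
 (66,[1,2,3,4]),
 (67,[2,1,4,3]),
 (68,[66,65,65,66]),
 (69,[67,64,64,67]),
 (70,[65,67,67]),
 (71,[66,66,64]),
 (72,[68,70,69,70]),
 (73,[71,68,71,69]),
 (74,[69,70,68,70,68]),
 (75,[69,71,69,71,68]),
 (76,[75,72,75,75]),
 (77,[74,74,73,74]),
 (78,[72,75,75,72,74,72]),
 (79,[73,75,73,74,74,73]),
 (80,[76,76,79,77,78,77]),
 (81,[76,79,76,78,77,77]),
 (82,[77,77,79,76,76,79,77]),
 (83,[79,81,82,80]),
 (84,[81,82,80,78])]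

theorem slp_ok : slpB 24 5 nets slp L = true := by decide +kernel

theorem mem_all {x : ℕ} (h : x ∈ L ++ slp.map (·.1)) : gp nets x ∈ cl (gp nets) L :=
  cl_eq_of_slpB nets_ok (by norm_num) slp_ok ▸ mem_cl h

-- chain [([64,65,66,67,68,69,70,71,72,73,74,75,76,77,78,79,80,81,82,83,84],[],0,0,24),([68,69,70,71,72,73,74,75,76,77,78,79,80,81,82,83,84],[],1,0,23),([72,73,74,75,76,77,78,79,80,81,82,83,84],[],2,0,22),([76,77,78,79,80,81,82,83,84],[],3,0,21),([78,79,80,81,82,83,84],[],4,0,20),([83,84],[],5,0,16),([],[],6,0,3)]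

open Cfsg.Lib.Golay in
theorem perm : Nonempty (Cfsg.M24 ≃* cl (gp nets) L) := by
  rw [← gen_gM24p]
  exact equiv_of_coding gc (fun g hg => (inH_gM24p g hg).1) nets_ok (by decide +kernel) (by decide +kernel)

theorem card : Nat.card (cl (gp nets) L) = 244823040 := by
  obtain ⟨e⟩ := perm
  rw [← Nat.card_congr e.toEquiv, Golay.card_M24]

end Cfsg.Lib.Comp.M24
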