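import Cfsg.Agent.Lib.Comp.Cen2
import Cfsg.Agent.Lib.Comp.Tv5x.Main
import Cfsg.Agent.Lib.Comp.M24.Perm

set_option maxRecDepth 100000
set_option Elab.async false

namespace Cfsg.Lib.Comp.M24

universe u

open Cfsg.Lib.MatB

noncomputable def cn_1 : Net :=
 (Net.cons 12 (nat_lit 0x3c4)
 (Net.cons 6 (nat_lit 0x38006)
 (Net.cons 3 (nat_lit 0x106)
 (Net.cons 1 (nat_lit 0x241001)
 (Net.cons 1 (nat_lit 0x12092)
 (Net.cons 1 (nat_lit 0x1001)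
 (Net.cons 3 (nat_lit 0xc0146)
 (Net.cons 6 (nat_lit 0x38006)
 (Net.cons 12 (nat_lit 0x3c4)
 Net.nil)))))))))

noncomputable def cn_2 : Net :=
 (Net.cons 12 (nat_lit 0x5c0)
 (Net.cons 6 (nat_lit 0x38002)
 (Net.cons 3 (nat_lit 0x80000)
 (Net.cons 1 (nat_lit 0x208040)
 (Net.cons 1 (nat_lit 0x10400)
 (Net.cons 1 (nat_lit 0x200)
 (Net.cons 3 (nat_lit 0x180004)
 (Net.cons 6 (nat_lit 0x38002)
 (Net.cons 12 (nat_lit 0xbc1)
 Net.nil)))))))))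

noncomputable def cn_3 : Net :=
 (Net.cons 12 (nat_lit 0x3c2)
 (Net.cons 6 (nat_lit 0x38020)
 (Net.cons 1 (nat_lit 0x241208)
 (Net.cons 1 (nat_lit 0x400)
 (Net.cons 1 (nat_lit 0x200)
 (Net.cons 3 (nat_lit 0x1c0004)
 (Net.cons 6 (nat_lit 0x38021)
 (Net.cons 12 (nat_lit 0x3c2)
 Net.nil))))))))

noncomputable def cn_4 : Net :=
 (Net.cons 12 (nat_lit 0x1c0)
 (Net.cons 6 (nat_lit 0x38000)
 (Net.cons 1 (nat_lit 0x240208)
 (Net.cons 1 (nat_lit 0x12080)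
 (Net.cons 3 (nat_lit 0x1c0000)
 (Net.cons 6 (nat_lit 0x38000)
 (Net.cons 12 (nat_lit 0x1c0)
 Net.nil)))))))

noncomputable def cn_5 : Net :=
 (Net.cons 12 (nat_lit 0x48c)
 (Net.cons 6 (nat_lit 0xa030)
 (Net.cons 3 (nat_lit 0x2100)
 (Net.cons 1 (nat_lit 0x248200)
 (Net.cons 1 (nat_lit 0x92092)
 (Net.cons 1 (nat_lit 0x48)
 (Net.cons 3 (nat_lit 0x100002)
 (Net.cons 6 (nat_lit 0x3000a)
 (Net.cons 12 (nat_lit 0xb73)
 Net.nil)))))))))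

noncomputable def cn_6 : Net :=
 (Net.cons 12 (nat_lit 0xfc0)
 (Net.cons 6 (nat_lit 0x8)
 (Net.cons 3 (nat_lit 0x100000)
 (Net.cons 1 (nat_lit 0x41000)
 (Net.cons 1 (nat_lit 0x82400)
 (Net.cons 1 (nat_lit 0x41000)
 (Net.cons 3 (nat_lit 0x86001)
 (Net.cons 6 (nat_lit 0x2d008)
 (Net.cons 12 (nat_lit 0xfc0)
 Net.nil)))))))))

noncomputable def cn_7 : Net :=
 (Net.cons 12 (nat_lit 0xbe0)
 (Net.cons 6 (nat_lit 0x36018)
 (Net.cons 3 (nat_lit 0x184100)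
 (Net.cons 1 (nat_lit 0x41200)
 (Net.cons 1 (nat_lit 0x412400)
 (Net.cons 1 (nat_lit 0x1200)
 (Net.cons 3 (nat_lit 0x184181)
 (Net.cons 6 (nat_lit 0x36038)
 (Net.cons 12 (nat_lit 0xbe0)
 Net.nil)))))))))

noncomputable def cn_8 : Net :=
 (Net.cons 12 (nat_lit 0x310)
 (Net.cons 6 (nat_lit 0x3c018)
 (Net.cons 3 (nat_lit 0x80184)
 (Net.cons 1 (nat_lit 0x200048)
 (Net.cons 1 (nat_lit 0x12410)
 (Net.cons 1 (nat_lit 0x8)
 (Net.cons 3 (nat_lit 0x180184)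
 (Net.cons 6 (nat_lit 0x3d018)
 (Net.cons 12 (nat_lit 0x310)
 Net.nil)))))))))

noncomputable def cn_9 : Net :=
 (Net.cons 12 (nat_lit 0xe00)
 (Net.cons 6 (nat_lit 0x38000)
 (Net.cons 1 (nat_lit 0x201040)
 (Net.cons 1 (nat_lit 0x92402)
 (Net.cons 1 (nat_lit 0x8000)
 (Net.cons 3 (nat_lit 0x7000)
 (Net.cons 6 (nat_lit 0x38000)
 (Net.cons 12 (nat_lit 0xe00)
 Net.nil))))))))

noncomputable def cn_10 : Net :=
 (Net.cons 12 (nat_lit 0xa00)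
 (Net.cons 6 (nat_lit 0x24036)
 (Net.cons 3 (nat_lit 0x104000)
 (Net.cons 1 (nat_lit 0x9)
 (Net.cons 1 (nat_lit 0x90082)
 (Net.cons 1 (nat_lit 0x40001)
 (Net.cons 3 (nat_lit 0x1001c2)
 (Net.cons 6 (nat_lit 0x2f008)
 (Net.cons 12 (nat_lit 0x1dd)
 Net.nil)))))))))

noncomputable def cn_11 : Net :=
 (Net.cons 12 (nat_lit 0x468)
 (Net.cons 6 (nat_lit 0xa008)
 (Net.cons 3 (nat_lit 0x2082)
 (Net.cons 1 (nat_lit 0x208048)
 (Net.cons 1 (nat_lit 0x482012)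
 (Net.cons 1 (nat_lit 0x200009)
 (Net.cons 3 (nat_lit 0x185185)
 (Net.cons 6 (nat_lit 0xb02d)
 (Net.cons 12 (nat_lit 0xfab)
 Net.nil)))))))))

noncomputable def cn_64 : Net :=
 (Net.cons 12 (nat_lit 0x9ac)
 (Net.cons 6 (nat_lit 0x2c006)
 (Net.cons 3 (nat_lit 0x4080)
 (Net.cons 1 (nat_lit 0x209040)
 (Net.cons 1 (nat_lit 0x2490)
 (Net.cons 3 (nat_lit 0x81080)
 (Net.cons 6 (nat_lit 0x1a02e)
 (Net.cons 12 (nat_lit 0x872)
 Net.nil))))))))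

noncomputable def cn_66 : Net :=
 (Net.cons 12 (nat_lit 0x578)
 (Net.cons 6 (nat_lit 0x1a02c)
 (Net.cons 3 (nat_lit 0x80000)
 (Net.cons 1 (nat_lit 0x248200)
 (Net.cons 1 (nat_lit 0x92480)
 (Net.cons 1 (nat_lit 0x41200)
 (Net.cons 3 (nat_lit 0x1071c0)
 (Net.cons 6 (nat_lit 0x5014)
 (Net.cons 12 (nat_lit 0x286)
 Net.nil)))))))))

noncomputable def cn_68 : Net :=
 (Net.cons 12 (nat_lit 0xdda)
 (Net.cons 6 (nat_lit 0x803c)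
 (Net.cons 3 (nat_lit 0x100000)
 (Net.cons 1 (nat_lit 0x1048)
 (Net.cons 1 (nat_lit 0x412492)
 (Net.cons 1 (nat_lit 0x9248)
 (Net.cons 3 (nat_lit 0xc00c6)
 (Net.cons 6 (nat_lit 0x2d03a)
 (Net.cons 12 (nat_lit 0x68a)
 Net.nil)))))))))

noncomputable def cn_70 : Net :=
 (Net.cons 12 (nat_lit 0x4dc)
 (Net.cons 6 (nat_lit 0xe00c)
 (Net.cons 3 (nat_lit 0x100084)
 (Net.cons 1 (nat_lit 0x240200)
 (Net.cons 1 (nat_lit 0x482090)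
 (Net.cons 1 (nat_lit 0x201008)
 (Net.cons 3 (nat_lit 0x106084)
 (Net.cons 6 (nat_lit 0x2701c)
 (Net.cons 12 (nat_lit 0x4b4)
 Net.nil)))))))))

noncomputable def cn_72 : Net :=
 (Net.cons 12 (nat_lit 0x35a)
 (Net.cons 6 (nat_lit 0x26000)
 (Net.cons 3 (nat_lit 0x102)
 (Net.cons 1 (nat_lit 0x209248)
 (Net.cons 1 (nat_lit 0x412090)
 (Net.cons 3 (nat_lit 0x6182)
 (Net.cons 6 (nat_lit 0x32022)
 (Net.cons 12 (nat_lit 0x82)
 Net.nil))))))))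

noncomputable def cn_74 : Net :=
 (Net.cons 12 (nat_lit 0xaf4)
 (Net.cons 6 (nat_lit 0x2602c)
 (Net.cons 3 (nat_lit 0x84100)
 (Net.cons 1 (nat_lit 0x241240)
 (Net.cons 1 (nat_lit 0x402410)
 (Net.cons 1 (nat_lit 0x200208)
 (Net.cons 3 (nat_lit 0xc10c0)
 (Net.cons 6 (nat_lit 0x5014)
 (Net.cons 12 (nat_lit 0xd74)
 Net.nil)))))))))

noncomputable def cn_76 : Net :=
 (Net.cons 12 (nat_lit 0xe50)
 (Net.cons 6 (nat_lit 0x2a020)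
 (Net.cons 1 (nat_lit 0x201000)
 (Net.cons 1 (nat_lit 0x482480)
 (Net.cons 1 (nat_lit 0x201040)
 (Net.cons 3 (nat_lit 0x86140)
 (Net.cons 6 (nat_lit 0x4030)
 (Net.cons 12 (nat_lit 0x520)
 Net.nil))))))))

noncomputable def cn_78 : Net :=
 (Net.cons 12 (nat_lit 0xe00)
 (Net.cons 6 (nat_lit 0x1a038)
 (Net.cons 3 (nat_lit 0x186100)
 (Net.cons 1 (nat_lit 0x48008)
 (Net.cons 1 (nat_lit 0x412090)
 (Net.cons 1 (nat_lit 0x8000)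
 (Net.cons 3 (nat_lit 0x84000)
 (Net.cons 6 (nat_lit 0x13038)
 (Net.cons 12 (nat_lit 0xe00)
 Net.nil)))))))))

noncomputable def cn_80 : Net :=
 (Net.cons 12 (nat_lit 0xe00)
 (Net.cons 6 (nat_lit 0x14038)
 (Net.cons 3 (nat_lit 0x180100)
 (Net.cons 1 (nat_lit 0x241040)
 (Net.cons 1 (nat_lit 0x412090)
 (Net.cons 1 (nat_lit 0x208008)
 (Net.cons 3 (nat_lit 0x1c7100)
 (Net.cons 6 (nat_lit 0x22038)
 (Net.cons 12 (nat_lit 0xe00)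
 Net.nil)))))))))

noncomputable def cn_82 : Net :=
 (Net.cons 12 (nat_lit 0x196)
 (Net.cons 6 (nat_lit 0x36020)
 (Net.cons 3 (nat_lit 0x4000)
 (Net.cons 1 (nat_lit 0x209000)
 (Net.cons 1 (nat_lit 0x402482)
 (Net.cons 1 (nat_lit 0x200240)
 (Net.cons 3 (nat_lit 0x42002)
 (Net.cons 6 (nat_lit 0x1f026)
 (Net.cons 12 (nat_lit 0x196)
 Net.nil)))))))))

noncomputable def cn_84 : Net :=
 (Net.cons 1 (nat_lit 0x208240)
 (Net.cons 1 (nat_lit 0x492480)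
 (Net.cons 1 (nat_lit 0x41000)
 Net.nil)))

noncomputable def cn : List Net := (apd [Net.nil,
 cn_1,
 cn_2,
 cn_3,
 cn_4,
 cn_5,
 cn_6,
 cn_7,
 cn_8,
 cn_9,
 cn_10,
 cn_11,
 Net.rev cn_10,
 Net.rev cn_11,
 Net.nil,
 Net.nil,
 Net.nil,
 Net.nil,
 Net.nil,
 Net.nil,
 Net.nil,
 Net.nil,
 Net.nil,
 Net.nil,
 Net.nil,
 Net.nil,
 Net.nil,
 Net.nil,
 Net.nil,
 Net.nil,
 Net.nil,
 Net.nil,
 Net.nil,
 Net.nil,
 Net.nil,
 Net.nil,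
 Net.nil,
 Net.nil,
 Net.nil,
 Net.nil]
 (apd [Net.nil,
 Net.nil,
 Net.nil,
 Net.nil,
 Net.nil,
 Net.nil,
 Net.nil,
 Net.nil,
 Net.nil,
 Net.nil,
 Net.nil,
 Net.nil,
 Net.nil,
 Net.nil,
 Net.nil,
 Net.nil,
 Net.nil,
 Net.nil,
 Net.nil,
 Net.nil,
 Net.nil,
 Net.nil,
 Net.nil,
 Net.nil,
 cn_64,
 Net.rev cn_64,
 cn_66,
 Net.rev cn_66,
 cn_68,
 Net.rev cn_68,
 cn_70,
 Net.rev cn_70,
 cn_72,
 Net.rev cn_72,
 cn_74,
 Net.rev cn_74,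
 cn_76,
 Net.rev cn_76,
 cn_78,
 Net.rev cn_78]
 [cn_80,
 Net.rev cn_80,
 cn_82,
 Net.rev cn_82,
 cn_84,
 Net.rev cn_84]))

theorem cn_ok : NetsOK 24 cn := netsOK_of (by decide +kernel)

noncomputable def cpi : Net :=
 (Net.cons 12 (nat_lit 0x37c)
 (Net.cons 6 (nat_lit 0x30038)
 (Net.cons 3 (nat_lit 0x2106)
 (Net.cons 1 (nat_lit 0x41040)
 (Net.cons 1 (nat_lit 0x92090)
 (Net.cons 1 (nat_lit 0x49008)
 (Net.cons 3 (nat_lit 0x187004)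
 (Net.cons 6 (nat_lit 0x20018)
 (Net.cons 12 (nat_lit 0xbba)
 Net.nil)))))))))

theorem cpi_ok : cpi.ok 24 := ok_of_netOK (by decide +kernel)

def cL : List ℕ := [1,2,3,4,5,6,7,8,9,10,11,12,13,64,65,66,67,68,69,70,71,72,73,74,75,76,77,78,79,80,81,82,83,84,85]

noncomputable def cC : List Lev := [([64,65,66,67,68,69,70,71,72,73,74,75,76,77,78,79,80,81,82,83,84,85],[10,11,10,68,64,10],0,0,24),
 ([68,69,70,71,72,73,74,75,76,77,78,79,80,81,82,83,84,85],[64,66,68,74,66,64,64],1,1,23),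
 ([72,73,74,75,76,77,78,79,80,81,82,83,84,85],[68,70,68,74,68,68],2,2,22),
 ([76,77,78,79,80,81,82,83,84,85],[72,74,72,74,76,72],3,3,21),
 ([78,79,80,81,82,83,84,85],[76,76,78,76,78,80,76],4,4,20),
 ([84,85],[78,82,78,80,80],5,5,16),
 ([],[84,84],21,21,3)]

noncomputable def cD : List (ℕ × List ℕ) := [(12,[10,10,10,10,10,10,10,10,10,10,10,10,10,10,10,10,10,10,10,10,10,10]),
 (13,[11,11,11,11,11,11,11,11,11,11,11,11,11,11,11,11,11,11,11,11,11,11]),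
 (64,[11,12,11,10,13,10,13]),
 (65,[11,12,11,12,13,10,13]),
 (66,[11,10,13,12]),
 (67,[10,11,12,13]),
 (68,[65,66,64,64,64,64]),
 (69,[65,65,65,65,67,64]),
 (70,[67,67,65,66]),
 (71,[67,64,66,66]),
 (72,[69,70,68,71,69]),
 (73,[68,70,69,71,68]),
 (74,[70,70,69]),
 (75,[68,71,71]),
 (76,[74,73,75,75,73,73]),
 (77,[72,72,74,74,72,75]),
 (78,[73,74,72,72,75]),
 (79,[74,73,73,75,72]),
 (80,[77,78,77,79,76,76]),
 (81,[77,77,78,76,79,76]),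
 (82,[76,79,77,79,76,79,77]),
 (83,[76,78,77,78,76,78,77]),
 (84,[79,81,78]),
 (85,[79,80,78]),
 (1,[84,81,83,77,83,72,72,72,68,83,64,74,10,13]),
 (2,[84,82,81,76,83,77,74,78,71,64,80,10,65]),
 (3,[83,77,79,72,76,71,68,64,68,10,68]),
 (4,[84,79,76,76,73,77]),
 (5,[85,83,79,76,80,73,68,84,67,10,65]),
 (6,[84,79,77,83,72,76,71,68,65,74,11,64]),
 (7,[84,81,77,83,72,72,74,71,68,65,74,11,64]),
 (8,[84,78,83,76,79,72,83,70]),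
 (9,[84,76,78,77,72,74,68,84,65,70])]

theorem c_le : cl (gp cn) cL ≤ cl (gp cn) [10,11] := by
  rw [← cl_eq_of_slpB (k := 5) (D := cD) (L := [10,11]) cn_ok (by norm_num) (by decide +kernel)]
  exact cl_mono (sub_of_subB (by decide +kernel))

theorem c_m10 : gp cn 10 ∈ (cl (gp nets) L).map (MulAut.conj cpi.perm).toMonoidHom :=
  mem_conj_of_eqB (k := 5) (w := [1]) (M := L) nets_ok (by norm_num) cpi_ok (cn_ok 10) (fun _ => mem_cl) (by decide +kernel)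

theorem c_m11 : gp cn 11 ∈ (cl (gp nets) L).map (MulAut.conj cpi.perm).toMonoidHom :=
  mem_conj_of_eqB (k := 5) (w := [2]) (M := L) nets_ok (by norm_num) cpi_ok (cn_ok 11) (fun _ => mem_cl) (by decide +kernel)

theorem c_conj : cl (gp cn) cL ≤ (cl (gp nets) L).map (MulAut.conj cpi.perm).toMonoidHom :=
  c_le.trans (cl_le.2 (by simp only [List.forall_mem_cons]; exact ⟨c_m10, c_m11, by simp⟩))

theorem c_ch : Nat.beq (chainB cn cC cL) 244823040 = true := by decide +kernel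

theorem c_ex : Exact cn cC cL := by
  have := nets_ok.finite L
  exact exact_of_beq ((card_le_of_conj c_conj).trans card.le) c_ch

noncomputable def ctb (x p : ℕ) : ℕ := ptInv (nth Net.nil cn x) p

theorem ctb_ok : TbA cn ctb := tbA_pt cn_ok

noncomputable def cV : List (ℕ × List (List ℕ)) := [(0,[[],
 [6,7,8,7,9,5,1,8,9],
 [1,9,8,5,9,7,8,6,7],
 [2,7,8,7,9,5,8,6,7,8],
 [5,1,6,8,6,7,9,8,7,9],
 [5,7,8,5,9,8,2,5],
 [2,5,8,9,5,8,5,7],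
 [1,8,9,8,5,7,8,9]]),
 (1,[[],
 [1,5,7,8,9,5,7,8,6,7],
 [6,7,8,5,7,9,8,5,3,7],
 [6,8,6,7,8,9,5,8,2,6],
 [2,6,8,5,9,7,8,6,7,8],
 [3,9,7,8,5,8,9,8],
 [5,8,9,2,8,5,8,7]]),
 (2,[[],
 [4,7,8,5,9,8,6],
 [4,6,8,9,5,8,7],
 [5,9,8,6,7,8,9,5,8,6,7],
 [5,8,5,3,7,9,8,6,7,8],
 [3,6,8,5,8,9]]),
 (3,[[],
 [1,6,7,8,3,6,9,8],
 [1,2,8,6,9,8,6,7],
 [5,8,5,9,8,6,7,8,9,5,8,5],
 [1,7,8,7,9,2,8,6],
 [1,6,8,7,9,2,8,7],
 [1,3,6,8,6,7,8,9],
 [1,3,7,9,8,6,7,8],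
 [1,8,3,6,9,8],
 [4,6,7],
 [8,5,9,8,6,7,8,9,5,8],
 [1,2,6,7,8,6,9,8,6,7],
 [1,7,8,6,3,7,8,9],
 [1,6,1,9,8,6,7,8],
 [1,6,8,7,9,2,8,6],
 [1,7,8,7,9,2,8,7]]),
 (4,[[]]),
 (5,[[],
 [1,6,1,9],
 [1,6,8,6,9,2,8,6],
 [1,2,8,6,9,8]]),
 (21,[[]])]

noncomputable def cR : List (List ℕ × ℕ) := apd [([1,1],0),
 ([2,2],0),
 ([3,3],0),
 ([4,4],0),
 ([5,5],0),
 ([6,6],0),
 ([7,7],0),
 ([8,8],0),
 ([9,9],0)] Tv5x.R

theorem c_side : SideOK Tv5x.iv Tv5x.R cR Tv5x.L := by decide +kernel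

theorem c_rel : Rels (gp cn) cR := c_ex.rels cn_ok ctb_ok (by decide +kernel)

theorem c_card : Nat.card ↥(cl (gp cn) cL ⊓ Subgroup.centralizer {ev (gp cn) [4]}) ≤ 21504 :=
  (card_cen_le2 cn_ok ctb_ok _ c_ex).trans (by decide +kernel)

theorem cen_eq {Γ : Type*} [Group Γ] (e : Γ ≃* cl (gp nets) L) :
    ∃ z : Γ, orderOf z = 2 ∧ Nonempty (Subgroup.centralizer {z} ≃* cl (gp Tv5x.nets) Tv5x.L) := by
  have := nets_ok.finite L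
  have := cn_ok.finite cL
  have := cn_ok.finite Tv5x.L
  have := Tv5x.nets_ok.finite Tv5x.L
  obtain ⟨φ, h1, h2⟩ := relabel e _ c_conj (card.trans_le (lb_of_chainB cn_ok c_ch))
  obtain ⟨z, hz⟩ : ev (gp cn) [4] ∈ φ.range := h2 ▸ ev_mem fun x hx => mem_cl (sub_of_subB (by decide +kernel) x hx)
  obtain ⟨f, hf⟩ := hom_quot Tv5x.nets_iv Tv5x.nets_rel Tv5x.ord Tv5x.lb c_side (ε := gp cn) fun r a _ => c_rel r a
  have : Finite ↥(cl (gp cn) cL ⊓ Subgroup.centralizer {ev (gp cn) [4]}) :=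
    Finite.of_injective _ (Subgroup.inclusion_injective inf_le_left)
  obtain ⟨e1⟩ := iso_of_range (f := f) (K := cl (gp cn) cL ⊓ Subgroup.centralizer {ev (gp cn) [4]}) (inj_of_card (Tv5x.card.trans_le (range_of_gen2 hf ▸
      le_trans (by decide +kernel) (lb_of_twB ctb_ok (C := cV) (by decide +kernel)))))
    ((range_of_gen2 hf).trans_le (le_inf (cl_mono (sub_of_subB (by decide +kernel)))
      (cen_of_cenP (f := MonoidHom.id _) Function.injective_id (fun _ _ => rfl) (c_ex.isBase cn_ok) ctb_ok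
        (by decide +kernel)))) (c_card.trans Tv5x.lb)
  obtain ⟨e2⟩ := cen_iso h1 (z := z)
  rw [h2, hz] at e2
  have : Fact (Nat.Prime 2) := ⟨by norm_num⟩
  refine ⟨z, ?_, ⟨e2.trans e1.symm⟩⟩
  rw [← orderOf_injective φ h1, hz]
  exact orderOf_eq_prime (c_ex.eq cn_ok ctb_ok (w := []) (by decide +kernel))
    (ne_of_wap ctb_ok (w := []) (p := 3) (by decide +kernel))

end Cfsg.Lib.Comp.M24
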