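import Cfsg.Agent.Lib.Comp.M24.Perm
import Cfsg.Agent.Lib.Comp.Out

set_option maxRecDepth 100000

namespace Cfsg.Lib.Comp.M24

universe u

noncomputable def on_1 : Net :=
 (Net.cons 12 (nat_lit 0x64a)
 (Net.cons 6 (nat_lit 0x10)
 (Net.cons 3 (nat_lit 0x82104)
 (Net.cons 1 (nat_lit 0x41009)
 (Net.cons 1 (nat_lit 0x492410)
 (Net.cons 1 (nat_lit 0x208008)
 (Net.cons 3 (nat_lit 0x45184)
 (Net.cons 6 (nat_lit 0x29031)
 (Net.cons 12 (nat_lit 0x4f5)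
 Net.nil)))))))))

noncomputable def on_2 : Net :=
 (Net.cons 12 (nat_lit 0xb98)
 (Net.cons 6 (nat_lit 0x10026)
 (Net.cons 3 (nat_lit 0x80084)
 (Net.cons 1 (nat_lit 0x48208)
 (Net.cons 1 (nat_lit 0x90410)
 (Net.cons 1 (nat_lit 0x8008)
 (Net.cons 3 (nat_lit 0x104144)
 (Net.cons 6 (nat_lit 0x1d018)
 (Net.cons 12 (nat_lit 0x8b5)
 Net.nil)))))))))

noncomputable def on_3 : Net :=
 (Net.cons 12 (nat_lit 0xfc2)
 (Net.cons 6 (nat_lit 0x8020)
 (Net.cons 3 (nat_lit 0x182000)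
 (Net.cons 1 (nat_lit 0x201208)
 (Net.cons 1 (nat_lit 0x490400)
 (Net.cons 1 (nat_lit 0x200200)
 (Net.cons 3 (nat_lit 0x1031c6)
 (Net.cons 6 (nat_lit 0xa017)
 (Net.cons 12 (nat_lit 0xd0e)
 Net.nil)))))))))

noncomputable def on_4 : Net :=
 (Net.cons 12 (nat_lit 0x3c6)
 (Net.cons 6 (nat_lit 0xc032)
 (Net.cons 3 (nat_lit 0x2080)
 (Net.cons 1 (nat_lit 0x241001)
 (Net.cons 1 (nat_lit 0x90090)
 (Net.cons 1 (nat_lit 0x40048)
 (Net.cons 3 (nat_lit 0xc5081)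
 (Net.cons 6 (nat_lit 0x3b000)
 (Net.cons 12 (nat_lit 0x64c)
 Net.nil)))))))))

noncomputable def on_5 : Net :=
 (Net.cons 12 (nat_lit 0xf82)
 (Net.cons 6 (nat_lit 0x26)
 (Net.cons 3 (nat_lit 0x84184)
 (Net.cons 1 (nat_lit 0x41200)
 (Net.cons 1 (nat_lit 0x490490)
 (Net.cons 1 (nat_lit 0x208040)
 (Net.cons 3 (nat_lit 0x84002)
 (Net.cons 6 (nat_lit 0x2c034)
 (Net.cons 12 (nat_lit 0x6ae)
 Net.nil)))))))))

noncomputable def on_11 : Net :=
 (Net.cons 12 (nat_lit 0xc84)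
 (Net.cons 6 (nat_lit 0x1c022)
 (Net.cons 3 (nat_lit 0x186084)
 (Net.cons 1 (nat_lit 0x41248)
 (Net.cons 1 (nat_lit 0x412082)
 (Net.cons 1 (nat_lit 0x1040)
 (Net.cons 3 (nat_lit 0x7002)
 (Net.cons 6 (nat_lit 0x1101e)
 (Net.cons 12 (nat_lit 0x302)
 Net.nil)))))))))

noncomputable def on_13 : Net :=
 (Net.cons 12 (nat_lit 0x9d6)
 (Net.cons 6 (nat_lit 0x16038)
 (Net.cons 3 (nat_lit 0x102004)
 (Net.cons 1 (nat_lit 0x9208)
 (Net.cons 1 (nat_lit 0x402490)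
 (Net.cons 1 (nat_lit 0x1048)
 (Net.cons 3 (nat_lit 0xc7084)
 (Net.cons 6 (nat_lit 0x3c030)
 (Net.cons 12 (nat_lit 0x18e)
 Net.nil)))))))))

noncomputable def on_15 : Net :=
 (Net.cons 12 (nat_lit 0xdec)
 (Net.cons 6 (nat_lit 0x12006)
 (Net.cons 3 (nat_lit 0x104002)
 (Net.cons 1 (nat_lit 0x201248)
 (Net.cons 1 (nat_lit 0x410482)
 (Net.cons 1 (nat_lit 0x208240)
 (Net.cons 3 (nat_lit 0x1c0102)
 (Net.cons 6 (nat_lit 0x2e00a)
 (Net.cons 12 (nat_lit 0xa30)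
 Net.nil)))))))))

noncomputable def on_17 : Net :=
 (Net.cons 12 (nat_lit 0x534)
 (Net.cons 6 (nat_lit 0x1c004)
 (Net.cons 3 (nat_lit 0x186080)
 (Net.cons 1 (nat_lit 0x209200)
 (Net.cons 1 (nat_lit 0x90480)
 (Net.cons 1 (nat_lit 0x8000)
 (Net.cons 3 (nat_lit 0x1401c0)
 (Net.cons 6 (nat_lit 0x35004)
 (Net.cons 12 (nat_lit 0xed8)
 Net.nil)))))))))

noncomputable def on_19 : Net :=
 (Net.cons 12 (nat_lit 0x918)
 (Net.cons 6 (nat_lit 0x14028)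
 (Net.cons 3 (nat_lit 0x104100)
 (Net.cons 1 (nat_lit 0x1000)
 (Net.cons 1 (nat_lit 0x92490)
 (Net.cons 1 (nat_lit 0x41200)
 (Net.cons 3 (nat_lit 0xc6100)
 (Net.cons 6 (nat_lit 0x32000)
 (Net.cons 12 (nat_lit 0x860)
 Net.nil)))))))))

noncomputable def on_21 : Net :=
 (Net.cons 12 (nat_lit 0x1c0)
 (Net.cons 6 (nat_lit 0x10)
 (Net.cons 3 (nat_lit 0x2000)
 (Net.cons 1 (nat_lit 0x248200)
 (Net.cons 1 (nat_lit 0x412400)
 (Net.cons 1 (nat_lit 0x8000)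
 (Net.cons 3 (nat_lit 0x1821c0)
 (Net.cons 6 (nat_lit 0x26008)
 (Net.cons 12 (nat_lit 0xb8)
 Net.nil)))))))))

noncomputable def on_23 : Net :=
 (Net.cons 12 (nat_lit 0x5f0)
 (Net.cons 6 (nat_lit 0x12024)
 (Net.cons 3 (nat_lit 0x84004)
 (Net.cons 1 (nat_lit 0x208000)
 (Net.cons 1 (nat_lit 0x12410)
 (Net.cons 1 (nat_lit 0x1200)
 (Net.cons 3 (nat_lit 0x82040)
 (Net.cons 6 (nat_lit 0x30024)
 (Net.cons 12 (nat_lit 0x420)
 Net.nil)))))))))

noncomputable def on_25 : Net :=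
 (Net.cons 12 (nat_lit 0x9ae)
 (Net.cons 6 (nat_lit 0x36012)
 (Net.cons 3 (nat_lit 0x82180)
 (Net.cons 1 (nat_lit 0x241040)
 (Net.cons 1 (nat_lit 0x402492)
 (Net.cons 1 (nat_lit 0x200208)
 (Net.cons 3 (nat_lit 0xc4080)
 (Net.cons 6 (nat_lit 0x27004)
 (Net.cons 12 (nat_lit 0xeee)
 Net.nil)))))))))

noncomputable def on_27 : Net :=
 (Net.cons 12 (nat_lit 0x980)
 (Net.cons 6 (nat_lit 0x18034)
 (Net.cons 3 (nat_lit 0x100004)
 (Net.cons 1 (nat_lit 0x8240)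
 (Net.cons 1 (nat_lit 0x492410)
 (Net.cons 1 (nat_lit 0x209200)
 (Net.cons 3 (nat_lit 0x102040)
 (Net.cons 6 (nat_lit 0x24014)
 (Net.cons 12 (nat_lit 0xe20)
 Net.nil)))))))))

noncomputable def on_29 : Net :=
 (Net.cons 12 (nat_lit 0x600)
 (Net.cons 6 (nat_lit 0x8024)
 (Net.cons 3 (nat_lit 0x180100)
 (Net.cons 1 (nat_lit 0x209000)
 (Net.cons 1 (nat_lit 0x92080)
 (Net.cons 1 (nat_lit 0x9040)
 (Net.cons 3 (nat_lit 0x180104)
 (Net.cons 6 (nat_lit 0xb024)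
 (Net.cons 12 (nat_lit 0x100)
 Net.nil)))))))))

noncomputable def on_31 : Net :=
 (Net.cons 12 (nat_lit 0xa18)
 (Net.cons 6 (nat_lit 0x2a028)
 (Net.cons 1 (nat_lit 0x49200)
 (Net.cons 1 (nat_lit 0x92490)
 (Net.cons 1 (nat_lit 0x8240)
 (Net.cons 3 (nat_lit 0x5140)
 (Net.cons 6 (nat_lit 0xa030)
 (Net.cons 12 (nat_lit 0xa18)
 Net.nil))))))))

noncomputable def on_33 : Net :=
 (Net.cons 12 (nat_lit 0xf28)
 (Net.cons 6 (nat_lit 0x16000)
 (Net.cons 3 (nat_lit 0x6080)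
 (Net.cons 1 (nat_lit 0x241208)
 (Net.cons 1 (nat_lit 0x10490)
 (Net.cons 1 (nat_lit 0x208)
 (Net.cons 3 (nat_lit 0x106080)
 (Net.cons 6 (nat_lit 0x16028)
 (Net.cons 12 (nat_lit 0xf28)
 Net.nil)))))))))

noncomputable def on_34 : Net :=
 (Net.cons 12 (nat_lit 0x900)
 (Net.cons 6 (nat_lit 0x18000)
 (Net.cons 3 (nat_lit 0x180000)
 (Net.cons 1 (nat_lit 0x48200)
 (Net.cons 1 (nat_lit 0x492000)
 (Net.cons 1 (nat_lit 0x201000)
 (Net.cons 3 (nat_lit 0x6100)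
 (Net.cons 6 (nat_lit 0x27000)
 (Net.cons 12 (nat_lit 0x900)
 Net.nil)))))))))

noncomputable def on_35 : Net :=
 (Net.cons 12 (nat_lit 0x8)
 (Net.cons 6 (nat_lit 0x24020)
 (Net.cons 3 (nat_lit 0x102100)
 (Net.cons 1 (nat_lit 0x40008)
 (Net.cons 1 (nat_lit 0x82410)
 (Net.cons 1 (nat_lit 0x1008)
 (Net.cons 3 (nat_lit 0x84100)
 (Net.cons 6 (nat_lit 0x13020)
 (Net.cons 12 (nat_lit 0x208)
 Net.nil)))))))))

noncomputable def on_36 : Net :=
 (Net.cons 12 (nat_lit 0x400)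
 (Net.cons 6 (nat_lit 0x4000)
 (Net.cons 3 (nat_lit 0x4080)
 (Net.cons 1 (nat_lit 0x200)
 (Net.cons 1 (nat_lit 0x90480)
 (Net.cons 1 (nat_lit 0x200)
 (Net.cons 3 (nat_lit 0x86080)
 (Net.cons 6 (nat_lit 0x3b000)
 (Net.cons 12 (nat_lit 0x400)
 Net.nil)))))))))

noncomputable def on : List Net := [Net.nil,
 on_1,
 on_2,
 on_3,
 on_4,
 on_5,
 Net.rev on_5,
 Net.nil,
 Net.rev on_1,
 Net.rev on_2,
 Net.rev on_3,
 on_11,
 Net.rev on_11,
 on_13,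
 Net.rev on_13,
 on_15,
 Net.rev on_15,
 on_17,
 Net.rev on_17,
 on_19,
 Net.rev on_19,
 on_21,
 Net.rev on_21,
 on_23,
 Net.rev on_23,
 on_25,
 Net.rev on_25,
 on_27,
 Net.rev on_27,
 on_29,
 Net.rev on_29,
 on_31,
 Net.rev on_31,
 on_33,
 on_34,
 on_35,
 on_36]

theorem on_ok : NetsOK 24 on := netsOK_of (by decide +kernel)

noncomputable def opi : Net :=
 (Net.cons 12 (nat_lit 0x49a)
 (Net.cons 6 (nat_lit 0x800a)
 (Net.cons 3 (nat_lit 0x84000)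
 (Net.cons 1 (nat_lit 0x208001)
 (Net.cons 1 (nat_lit 0x482492)
 (Net.cons 1 (nat_lit 0x41249)
 (Net.cons 3 (nat_lit 0x6102)
 (Net.cons 6 (nat_lit 0x2e028)
 (Net.cons 12 (nat_lit 0x114)
 Net.nil)))))))))

theorem opi_ok : opi.ok 24 := ok_of_netOK (by decide +kernel)

def oL : List ℕ := [1,2,3,4,5,6,8,9,10,11,12,13,14,15,16,17,18,19,20,21,22,23,24,25,26,27,28,29,30,31,32,33,34,35,36]

noncomputable def oC : List Lev := [([11,12,13,14,15,16,17,18,19,20,21,22,23,24,25,26,27,28,29,30,31,32,33,34,35,36],[1,2,3,1,11,3],0,0,24),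
 ([15,16,17,18,19,20,21,22,23,24,25,26,27,28,29,30,31,32,33,34,35,36],[11,13,15,11,23,11],1,1,23),
 ([19,20,21,22,23,24,25,26,27,28,29,30,31,32,33,34,35,36],[15,17,19,17,19,36],2,2,22),
 ([23,24,25,26,27,28,29,30,31,32,33,34,35,36],[19,19,21,23,34,23],3,3,21),
 ([27,28,29,30,31,32,33,34,35,36],[23,25,23,33,25,23],4,4,20),
 ([33,34,35,36],[27,27],5,5,3),
 ([],[33,34,35,36],8,8,16)]

noncomputable def oD : List (ℕ × List ℕ) := [(8,[1,1,1,1,1,1,1,1,1,1,1,1,1,1,1,1,1,1,1,1,1,1]),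
 (9,[2,2,2,2,2,2,2,2,2,2]),
 (10,[3,3,3,3,3,3,3,3,3]),
 (11,[1,1,1,9,10]),
 (12,[3,2,8,8,8]),
 (13,[2,3,9,3]),
 (14,[10,2,10,9]),
 (15,[13,13,12,13]),
 (16,[14,11,14,14]),
 (17,[12,13,13,12]),
 (18,[11,14,14,11]),
 (19,[16,18,18,15,15]),
 (20,[16,16,17,17,15]),
 (21,[18,16]),
 (22,[15,17]),
 (23,[22,19,22,20,21]),
 (24,[22,19,21,20,21]),
 (25,[21,19]),
 (26,[20,22]),
 (27,[23,23,25,23]),
 (28,[24,26,24,24]),
 (29,[26,24,26,26]),
 (30,[25,25,23,25]),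
 (31,[24,24,25,25,24]),
 (32,[23,26,26,23,23]),
 (33,[27,32]),
 (34,[27,30]),
 (35,[32,27]),
 (36,[28,29]),
 (4,[33,35,1]),
 (5,[33,34,36,27,25,19,31,15,26,13,11]),
 (6,[33,35,27,24,24,19,22,15,15,13,11])]

theorem o_le : cl (gp on) oL ≤ cl (gp on) [1,2,3] := by
  rw [← cl_eq_of_slpB (k := 5) (D := oD) (L := [1,2,3]) on_ok (by norm_num) (by decide +kernel)]
  exact cl_mono (sub_of_subB (by decide +kernel))

theorem o_m1 : gp on 1 ∈ (cl (gp nets) L).map (MulAut.conj opi.perm).toMonoidHom :=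
  mem_conj_of_eqB (k := 5) (w := [83,79,81,76,82,73,77,71,65,79,2,2]) nets_ok (by norm_num) opi_ok (on_ok 1) (fun _ => mem_all) (by decide +kernel)

theorem o_m2 : gp on 2 ∈ (cl (gp nets) L).map (MulAut.conj opi.perm).toMonoidHom :=
  mem_conj_of_eqB (k := 5) (w := [83,78,81,82,76,74,82,70,2,77]) nets_ok (by norm_num) opi_ok (on_ok 2) (fun _ => mem_all) (by decide +kernel)

theorem o_m3 : gp on 3 ∈ (cl (gp nets) L).map (MulAut.conj opi.perm).toMonoidHom :=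
  mem_conj_of_eqB (k := 5) (w := [83,81,78,76,76,72,74,79,68,74,65,66,1,68]) nets_ok (by norm_num) opi_ok (on_ok 3) (fun _ => mem_all) (by decide +kernel)

theorem o_conj : cl (gp on) oL ≤ (cl (gp nets) L).map (MulAut.conj opi.perm).toMonoidHom :=
  o_le.trans (cl_le.2 (by simp only [List.forall_mem_cons]; exact ⟨o_m1, o_m2, o_m3, by simp⟩))

theorem o_ch : Nat.beq (chainB on oC oL) 244823040 = true := by decide +kernel

theorem o_ex : Exact on oC oL := by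
  have := nets_ok.finite L
  exact exact_of_beq ((card_le_of_conj o_conj).trans card.le) o_ch

noncomputable def tb : ℕ → ℕ → ℕ := tbx 24 (tbk 5 4 prs5 on 32)

theorem tb_ok : TbA on tb := tbA_tbx on_ok (tbk_eq tr5 (by norm_num) (by norm_num) (by norm_num) on_ok)

noncomputable def par0 : ℕ := (nat_lit 0x513030cf25f56358938c6dc2ca0c2402200)

noncomputable def par1 : ℕ := (nat_lit 0x2271a2cb7d538d35b31651448c38f60c2c0)

noncomputable def par2 : ℕ := (nat_lit 0x4d875769a49845251c9224105d650f3c0)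

noncomputable def par3 : ℕ := (nat_lit 0x1c61d4da5d565481e52489359a615680)

noncomputable def par4 : ℕ := (nat_lit 0x89c69791a8d865c6db65f697657680)

noncomputable def par5 : ℕ := (nat_lit 0x1b700)

noncomputable def par6 : ℕ := (nat_lit 0x9248a48648a39249239238c0)

noncomputable def oP : List (ℕ → ℕ) := [(fun p => look2 par0 6 256 (Nat.sub p 0)),
 (fun p => look2 par1 6 256 (Nat.sub p 1)),
 (fun p => look2 par2 6 256 (Nat.sub p 2)),
 (fun p => look2 par3 6 256 (Nat.sub p 3)),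
 (fun p => look2 par4 6 256 (Nat.sub p 4)),
 (fun p => look2 par5 6 256 (Nat.sub p 5)),
 (fun p => look2 par6 6 256 (Nat.sub p 8))]

noncomputable def cxM : ℕ := (nat_lit 0x400000)

theorem cx_b : centB on tb oC oL 1 0 0 24 [0,1,2,3,4,7,5] [] [1] [1,1,1,1,1,1,1,1,1,1,1,1,1,1,1,1,1,1,1,1,1,1] cxM = true := by decide +kernel

noncomputable def cxF (q : ℕ) : Bool := sift tb (fun e => witer tb [1] e q) [] oC oP oL [0,1,2,3,4,7,5] []

theorem cxA_0 : AllM cxM 256 cxF :=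
  AllM.step (lo := 0) (m := 1) (AllM.zero _ _) (by decide +kernel)

theorem cx_c : ∀ c ∈ cl (gp on) oL, Commute c (gp on 1) → c ∈ cl (gp on) [1] := fun _ hc hz =>
  Exact.cent on_ok tb_ok o_ex cx_b cxA_0 (by norm_num) (by norm_num) hc hz

noncomputable def cyM : ℕ := (nat_lit 0x204040)

theorem cy_b : centB on tb oC oL 4 0 0 24 [0,1,2,3,4,9,5] [] [4] [4,4,4,4,4,4,4,4,4,4] cyM = true := by decide +kernel

noncomputable def cyF (q : ℕ) : Bool := sift tb (fun e => witer tb [4] e q) [] oC oP oL [0,1,2,3,4,9,5] []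

theorem cyA_0 : AllM cyM 256 cyF :=
  AllM.step (lo := 0) (m := 1) (AllM.zero _ _) (by decide +kernel)

theorem cy_c : ∀ c ∈ cl (gp on) oL, Commute c (gp on 4) → c ∈ cl (gp on) [4] := fun _ hc hz =>
  Exact.cent on_ok tb_ok o_ex cy_b cyA_0 (by norm_num) (by norm_num) hc hz

noncomputable def parO : ℕ := (nat_lit 0x100000000100000000104004000104104100)

noncomputable def oO : ℕ := (nat_lit 0x820d3f)

noncomputable def oR : List (List ℕ × ℕ) := [([1,3,2],5),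
 ([1,2,1,2,2,2,3],5)]

theorem o_b : outB on tb (bases oC) oL 23 2 1 8 0 oR [4] oO = true := by decide +kernel

noncomputable def oF (q : ℕ) : Bool := walk tb (fun p => look2 parO 6 256 (Nat.sub p 0)) (msk [4]) 0 (fun ws => allL [1,5] (candB tb oR [(1,0)] 17 q ws)) 1000 q []

theorem oA_0 : AllM oO 256 oF :=
  AllM.step (lo := 0) (m := 1) (AllM.zero _ _) (by decide +kernel)

theorem o_phi {Γ : Type*} [Group Γ] (e : Γ ≃* cl (gp nets) L) : ∃ φ : Γ →* Equiv.Perm ℕ, Function.Injective φ ∧ φ.range = cl (gp on) oL := by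
  have := nets_ok.finite L
  exact relabel e _ o_conj (card.trans_le (lb_of_chainB on_ok o_ch))

theorem out_le {Γ : Type*} [Group Γ] (e : Γ ≃* cl (gp nets) L) : Finite (Out Γ) ∧ Nat.card (Out Γ) ≤ 1 := by
  obtain ⟨φ, h1, h2⟩ := o_phi e
  exact card_out_le on_ok tb_ok o_ex o_b cy_b cy_c (by norm_num) h1 h2 o_le (m := 10644480) (J := 11) (by norm_num)
    (((Nat.card_congr e.toEquiv).trans card).trans (by norm_num)) (by norm_num) (by norm_num) cx_c (by decide +kernel) (by norm_num) oA_0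

theorem out_eq {Γ : Type*} [Group Γ] (e : Γ ≃* cl (gp nets) L) : Nat.card (Out Γ) = 1 := card_out_eq_one (out_le e)

end Cfsg.Lib.Comp.M24
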